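/-
S5211, `q = 2`: enumeration of the automorphisms of a subgroup of the table group.
-/
import Cfsg.Agent.FUS.G2T.Defs

set_option autoImplicit false
set_option maxRecDepth 100000

namespace CL.G2T

open CL.K

variable {A : (ℕ → ℕ) → Prop} {r r' f g : ℕ → ℕ} {m t a s : ℕ} {L : List (ℕ × ℕ × ℕ)} {K G : List ℕ}

theorem cc_zero (ha : a < 64) : cc 0 a = a := by revert a; decide +kernel

theorem cc_iv (hs : s < 64) (ha : a < 64) : cc (iv s) (cc s a) = a ∧ cc s (cc (iv s) a) = a := by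
  have := all2 (p := fun s a => Nat.beq (cc (iv s) (cc s a)) a && Nat.beq (cc s (cc (iv s) a)) a) (by decide +kernel) hs ha
  simpa using this

theorem Au.zero (hm : clB m = true) (h : Au m r) : r 0 = 0 := by
  have h1 := h.hom 0 0 (in_zero hm) (in_zero hm)
  rw [show mu 0 0 = 0 by decide +kernel] at h1
  exact (by decide +kernel : ∀ a < 64, a = mu a a → a = 0) _ (h.maps 0 (in_zero hm)).1 h1

theorem Au.od (hm : clB m = true) (h : Au m r) (ha : In m a) : od (r a) = od a := by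
  have k : ∀ a, In m a → (r a = 0 ↔ a = 0) := fun a ha => ⟨h.inj a ha, fun e => e ▸ h.zero hm⟩
  have h2 := ha.mu hm ha
  rw [od_eq ha.1, od_eq (h.maps a ha).1, ← h.hom a a ha ha, ← h.hom _ _ h2 h2]
  simp only [k a ha, k _ h2, k _ (h2.mu hm h2)]

theorem Au.comp (h : Au m r) (h' : Au m r') : Au m fun a => r (r' a) :=
  ⟨fun a ha => h.maps _ (h'.maps a ha), fun a b ha hb => by rw [h'.hom a b ha hb, h.hom _ _ (h'.maps a ha) (h'.maps b hb)],
    fun a ha e => h'.inj a ha (h.inj _ (h'.maps a ha) e)⟩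

theorem au_id : Au m fun a => a := ⟨fun _ h => h, fun _ _ _ _ => rfl, fun _ _ h => h⟩

/-- the straight line program `L` computes all of `m` -/
noncomputable def wfL (m : ℕ) (L : List (ℕ × ℕ × ℕ)) : List ℕ → Bool :=
  List.rec (motive := fun _ => List ℕ → Bool) (fun K => alm m fun a => lany (Nat.beq a) K)
    (fun t _ ih K => lany (Nat.beq t.2.1) K && (lany (Nat.beq t.2.2) K && (Nat.beq t.1 (mu t.2.1 t.2.2) && ih (t.1 :: K)))) L

theorem lany_beq : lany (Nat.beq a) K = true ↔ a ∈ K := by simp [lany_iff]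

theorem wfL_ind {Q : ℕ → Prop} (h : wfL m L K = true) (hK : ∀ a ∈ K, Q a)
    (hL : ∀ t ∈ L, t.1 = mu t.2.1 t.2.2 → Q t.2.1 → Q t.2.2 → Q t.1) : ∀ a, In m a → Q a := by
  induction L generalizing K with
  | nil => exact fun a ha => hK a (lany_beq.1 (alm_iff.1 h a ha))
  | cons t L ih =>
    obtain ⟨h1, h⟩ := Bool.and_eq_true_iff.1 h
    obtain ⟨h2, h⟩ := Bool.and_eq_true_iff.1 h
    obtain ⟨h3, h⟩ := Bool.and_eq_true_iff.1 h
    exact ih h (List.forall_mem_cons.2 ⟨hL t List.mem_cons_self (Nat.eq_of_beq_eq_true h3) (hK _ (lany_beq.1 h1))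
      (hK _ (lany_beq.1 h2)), hK⟩) fun u hu => hL u (List.mem_cons_of_mem _ hu)

/-- `m` is a subgroup with generators `G` -/
structure Gn (m : ℕ) (G : List ℕ) (L : List (ℕ × ℕ × ℕ)) : Prop where
  cl : clB m = true
  mem : ∀ a ∈ G, In m a
  wf : wfL m L (0 :: G) = true

theorem Gn.ext (h : Gn m G L) (hf : Au m f) (hg : Au m g) (e : ∀ a ∈ G, f a = g a) : ∀ a, In m a → f a = g a := fun a ha =>
  (wfL_ind (Q := fun a => In m a ∧ f a = g a) h.wf
    (List.forall_mem_cons.2 ⟨⟨in_zero h.cl, (hf.zero h.cl).trans (hg.zero h.cl).symm⟩, fun a ha => ⟨h.mem a ha, e a ha⟩⟩)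
    (fun t _ e h1 h2 => e ▸ ⟨h1.1.mu h.cl h2.1, by rw [hf.hom _ _ h1.1 h2.1, hg.hom _ _ h1.1 h2.1, h1.2, h2.2]⟩) a ha).2

/-- run the program -/
noncomputable def bld (L : List (ℕ × ℕ × ℕ)) : ℕ → ℕ :=
  List.rec (motive := fun _ => ℕ → ℕ) (fun T => T)
    (fun t _ ih T => force (Nat.add T (Nat.shiftLeft (mu (fl T t.2.1) (fl T t.2.2)) (Nat.mul 6 t.1))) ih) L

/-- the table of the generators -/
noncomputable def ini (V : List (ℕ × ℕ)) : ℕ :=
  List.rec (motive := fun _ => ℕ) 0 (fun q _ ih => Nat.add ih (Nat.shiftLeft q.2 (Nat.mul 6 q.1))) V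

/-- build the table, check it, test `p` -/
noncomputable def leaf (L : List (ℕ × ℕ × ℕ)) (p : ℕ → Bool) (V : List (ℕ × ℕ)) : Bool :=
  force (bld L (ini V)) fun T => Nat.beq (fl T 0) 0 && (lall (fun q : ℕ × ℕ => Nat.beq (fl T q.1) q.2) V &&
    (lall (fun t : ℕ × ℕ × ℕ => Nat.beq (fl T t.1) (mu (fl T t.2.1) (fl T t.2.2))) L && p T))

/-- all images of the generators -/
noncomputable def enm (m : ℕ) (fin : List (ℕ × ℕ) → Bool) (G : List ℕ) : List (ℕ × ℕ) → Bool :=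
  List.rec (motive := fun _ => List (ℕ × ℕ) → Bool) fin
    (fun g _ ih V => alm m fun a => !(Nat.beq (od a) (od g) &&
      lall (fun q : ℕ × ℕ => Nat.beq (od (mu q.2 a)) (od (mu q.1 g))) V) || ih ((g, a) :: V)) G

theorem Au.of_enm (hm : clB m = true) (hr : Au m r) {fin : List (ℕ × ℕ) → Bool} {V : List (ℕ × ℕ)} (hG : ∀ a ∈ G, In m a)
    (hV : ∀ q ∈ V, In m q.1 ∧ q.2 = r q.1) (h : enm m fin G V = true) :
    ∃ W, fin W = true ∧ (∀ q ∈ V, q ∈ W) ∧ ∀ a ∈ G, (a, r a) ∈ W := by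
  induction G generalizing V with
  | nil => exact ⟨V, h, fun _ h => h, fun _ h => absurd h List.not_mem_nil⟩
  | cons g G ih =>
    have hg := hG g List.mem_cons_self
    have h1 := alm_iff.1 h _ (hr.maps g hg)
    rw [Bool.or_eq_true, Bool.not_eq_true', ← Bool.not_eq_true, Bool.and_eq_true, lall_iff] at h1
    obtain ⟨W, h2, h3, h4⟩ := ih (fun a ha => hG a (List.mem_cons_of_mem _ ha)) (List.forall_mem_cons.2 ⟨⟨hg, rfl⟩, hV⟩)
      (h1.resolve_left (not_not.2 ⟨by rw [hr.od hm hg]; exact Nat.beq_refl _, fun q hq => by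
        rw [(hV q hq).2, ← hr.hom _ _ (hV q hq).1 hg, hr.od hm ((hV q hq).1.mu hm hg)]; exact Nat.beq_refl _⟩))
    exact ⟨W, h2, fun q hq => h3 q (List.mem_cons_of_mem _ hq), List.forall_mem_cons.2 ⟨h3 _ List.mem_cons_self, h4⟩⟩

theorem Gn.tab (h : Gn m G L) {p : ℕ → Bool} (e : enm m (leaf L p) G [] = true) (hr : Au m r) :
    ∃ T, (∀ a, In m a → fl T a = r a) ∧ p T = true := by
  obtain ⟨W, h1, -, h2⟩ := hr.of_enm h.cl h.mem (fun _ h => absurd h List.not_mem_nil) e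
  simp only [leaf, force_eq, Bool.and_eq_true, lall_iff, Nat.beq_eq] at h1
  refine ⟨_, fun a ha => (wfL_ind (Q := fun a => In m a ∧ fl (bld L (ini W)) a = r a) h.wf
    (List.forall_mem_cons.2 ⟨⟨in_zero h.cl, h1.1.trans (hr.zero h.cl).symm⟩, fun a ha => ⟨h.mem a ha, h1.2.1 _ (h2 a ha)⟩⟩)
    (fun t ht e k1 k2 => ⟨e ▸ k1.1.mu h.cl k2.1, ?_⟩) a ha).2, h1.2.2.2⟩
  rw [h1.2.2.1 t ht, k1.2, k2.2, ← hr.hom _ _ k1.1 k2.1, ← e]

/-- pass the evaluated list of the `(f a, g a)` to `k` -/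
noncomputable def mkV (f g : ℕ → ℕ) (G : List ℕ) : (List (ℕ × ℕ) → Bool) → Bool :=
  List.rec (motive := fun _ => (List (ℕ × ℕ) → Bool) → Bool) (fun k => k [])
    (fun a _ ih k => force (f a) fun x => force (g a) fun y => ih fun V => k ((x, y) :: V)) G

theorem mkV_eq (k : List (ℕ × ℕ) → Bool) : mkV f g G k = k (G.map fun a => (f a, g a)) := by
  induction G generalizing k with
  | nil => rfl
  | cons a G ih =>
    change (force (f a) fun x => force (g a) fun y => mkV f g G fun V => k ((x, y) :: V)) = _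
    rw [force_eq, force_eq, ih, List.map_cons]

/-- `g` is `f` followed by a conjugation on `G` -/
noncomputable def cjB (G : List ℕ) (f g : ℕ → ℕ) : Bool :=
  mkV f g G fun V => anyLt (fun s => lall (fun q : ℕ × ℕ => Nat.beq (cc s q.1) q.2) V) 64

theorem cjB_iff : cjB G f g = true ↔ ∃ s < 64, ∀ a ∈ G, g a = cc s (f a) := by
  simp only [cjB, mkV_eq, anyLt_iff, lall_iff, List.forall_mem_map, Nat.beq_eq, eq_comm (a := g _)]

theorem Fam.of_cjB (h : Fam m t A) (n : Gn m G L) (hf : Au m f) (hg : Au m g) (e : cjB G f g = true) :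
    ∃ s < 64, ∀ a, In m a → g a = cc s (f a) :=
  let ⟨s, hs, e⟩ := cjB_iff.1 e
  ⟨s, hs, n.ext hg ((h.au (h.cj s hs)).comp hf) e⟩

/-- test for `Dc` -/
noncomputable def dcB (G : List ℕ) (t : ℕ) (r r' : ℕ → ℕ) : Bool := cjB G r' r || cjB G r' fun a => r (cc t a)

theorem Fam.of_dcB (h : Fam m t A) (n : Gn m G L) (ht : t < 64) (hr : Au m r) (hr' : Au m r') (e : dcB G t r r' = true) :
    Dc m r r' := by
  rcases Bool.or_eq_true_iff.1 e with e | e
  · obtain ⟨s, hs, e⟩ := h.of_cjB n hr' hr e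
    exact ⟨0, by norm_num, s, hs, fun a ha => by rw [cc_zero ha.1, e a ha]⟩
  · exact ⟨t, ht, h.of_cjB n hr' (hr.comp (h.au (h.cj t ht))) e⟩

/-- a word in `r` and the conjugation by `t` -/
noncomputable def evw (r : ℕ → ℕ) (t : ℕ) (w : List Bool) (a : ℕ) : ℕ :=
  List.rec (motive := fun _ => ℕ) a (fun c _ ih => Bool.rec (motive := fun _ => ℕ) (cc t ih) (r ih) c) w

theorem Fam.evw (h : Fam m t A) (ht : t < 64) (hr : A r) (w : List Bool) : A (evw r t w) := by
  induction w with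
  | nil => exact h.congr (h.cj 0 (by norm_num)) fun a ha => (cc_zero ha.1).symm
  | cons c w ih =>
    cases c
    exacts [h.comp (r := cc t) (h.cj t ht) ih, h.comp (r := r) hr ih]

/-- some word normalizes `Aut_S` without being in it -/
noncomputable def badB (G : List ℕ) (t : ℕ) (W : List (List Bool)) (r : ℕ → ℕ) : Bool :=
  lany (fun w => cjB G (evw r t w) (fun a => evw r t w (cc t a)) && !cjB G (fun a => a) (evw r t w)) W

theorem Fam.not_badB (h : Fam m t A) (n : Gn m G L) (ht : t < 64) (hr : A r) {W : List (List Bool)} :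
    ¬ badB G t W r = true := fun e => by
  obtain ⟨w, -, e⟩ := lany_iff.1 e
  rw [Bool.and_eq_true, Bool.not_eq_true', ← Bool.not_eq_true] at e
  have k := h.evw ht hr w
  obtain ⟨s, hs, e1⟩ := h.of_cjB n (h.au k) ((h.au k).comp (h.au (h.cj t ht))) e.1
  obtain ⟨s', hs', e2⟩ := h.ext k s hs e1
  exact e.2 (cjB_iff.2 ⟨s', hs', fun a ha => e2 a (n.mem a ha)⟩)

/-- the test of the classification -/
noncomputable def clsB (G : List ℕ) (t : ℕ) (W : List (List Bool)) (R : ℕ → ℕ → ℕ) (T : ℕ) : Bool :=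
  badB G t W (fl T) || (cjB G (fun a => a) (fl T) || anyLt (fun i => dcB G t (fl T) (R i)) 4)

theorem Fam.cls (h : Fam m t A) (n : Gn m G L) (ht : t < 64) {W : List (List Bool)} {R : ℕ → ℕ → ℕ} (hR : ∀ i < 4, Au m (R i))
    (e : enm m (leaf L (clsB G t W R)) G [] = true) (hr : A r) : Inr m r ∨ ∃ i < 4, Dc m r (R i) := by
  obtain ⟨T, h1, h2⟩ := n.tab e (h.au hr)
  have k := h.congr hr h1
  rcases Bool.or_eq_true_iff.1 ((Bool.or_eq_true_iff.1 h2).resolve_left (h.not_badB n ht k)) with h3 | h3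
  · obtain ⟨s, hs, h4⟩ := h.of_cjB n au_id (h.au k) h3
    exact Or.inl ⟨s, hs, fun a ha => (h1 a ha).symm.trans (h4 a ha)⟩
  · obtain ⟨i, hi, h4⟩ := anyLt_iff.1 h3
    obtain ⟨u, hu, s, hs, h5⟩ := h.of_dcB n ht (h.au k) (hR i hi) h4
    exact Or.inr ⟨i, hi, u, hu, s, hs, fun a ha => (h1 _ ((h.au (h.cj u hu)).maps a ha)).symm.trans (h5 a ha)⟩

end CL.G2T
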