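/-
S5211, `q = 2`: the automorphisms of `Q₁`.
-/
import Cfsg.Agent.FUS.G2T.Eng

set_option autoImplicit false
set_option maxRecDepth 100000

namespace CL.G2T

open CL.K

def G1 : List ℕ := [16, 2, 30, 4]
def L1 : List (ℕ × ℕ × ℕ) := [(18, 16, 2), (14, 16, 30), (20, 16, 4), (19, 2, 16), (29, 2, 30), (6, 2, 4), (15, 30, 16), (28, 30, 2), (26, 30, 4), (27, 4, 30), (3, 18, 16), (13, 18, 30), (22, 18, 4), (31, 14, 16), (12, 14, 2), (10, 14, 4), (11, 20, 30), (17, 19, 2), (23, 19, 4), (25, 29, 4), (24, 6, 30), (5, 26, 30), (1, 3, 2), (7, 3, 4), (9, 13, 4), (8, 22, 30), (21, 10, 30)]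
def W1 : List (List Bool) := [[true, true, true, true, true, false, true, true, true, false, true]]

theorem gn1 : Gn m1 G1 L1 := ⟨clB_m1, by simp only [In]; decide +kernel, by decide +kernel⟩

theorem au_R1 : ∀ i < 4, Au m1 (R1 i) := fun i hi =>
  au_of_auB (allLt_iff.1 (by decide +kernel : allLt (fun i => auB m1 (R1 i)) 4 = true) i hi)

theorem chk1 : enm m1 (leaf L1 (clsB G1 32 W1 R1)) G1 [] = true := by decide +kernel

end CL.G2T
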