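/-
S5211, `q = 2`: the automorphisms of `Q₂`.
-/
import Cfsg.Agent.FUS.G2T.Eng

set_option autoImplicit false
set_option maxRecDepth 100000

namespace CL.G2T

open CL.K

def G2 : List ℕ := [12, 36, 4]
def L2 : List (ℕ × ℕ × ℕ) := [(1, 12, 12), (40, 12, 36), (8, 12, 4), (2, 36, 36), (34, 36, 4), (9, 4, 12), (32, 4, 36), (13, 1, 12), (37, 1, 36), (5, 1, 4), (14, 40, 36), (46, 40, 4), (44, 8, 36), (38, 2, 36), (6, 2, 4), (47, 34, 12), (45, 9, 36), (41, 13, 36), (3, 37, 36), (35, 37, 4), (33, 5, 36), (42, 14, 36), (10, 14, 4), (11, 6, 12), (43, 45, 4), (15, 41, 36), (39, 3, 36), (7, 3, 4)]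
def W2 : List (List Bool) := [[true, false, true, true, true, true, true, false, true], [true, true, true, false, true], [true, true, false, true, true]]

theorem gn2 : Gn m2 G2 L2 := ⟨clB_m2, by simp only [In]; decide +kernel, by decide +kernel⟩

theorem au_R2 : ∀ i < 4, Au m2 (R2 i) := fun i hi =>
  au_of_auB (allLt_iff.1 (by decide +kernel : allLt (fun i => auB m2 (R2 i)) 4 = true) i hi)

theorem chk2 : enm m2 (leaf L2 (clsB G2 16 W2 R2)) G2 [] = true := by decide +kernel

end CL.G2T
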