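/-
S5211, `q = 2`: the possible automizers of `S`, `Q₁`, `Q₂` (computations on the table).
-/
import Cfsg.Agent.FUS.G2T.C1
import Cfsg.Agent.FUS.G2T.C2

set_option autoImplicit false
set_option maxRecDepth 100000

namespace CL.G2T

open CL.K

variable {A : (ℕ → ℕ) → Prop} {r r' : ℕ → ℕ} {m t i j k : ℕ}

def GT : List ℕ := [18, 22, 48]
def LT : List (ℕ × ℕ × ℕ) := [(1, 18, 18), (5, 18, 22), (35, 18, 48), (39, 22, 48), (45, 48, 18), (43, 48, 22), (15, 48, 48), (19, 1, 18), (23, 1, 22), (49, 1, 48), (53, 5, 48), (63, 35, 18), (57, 35, 22), (29, 35, 48), (58, 39, 18), (60, 39, 22), (24, 39, 48), (55, 45, 22), (21, 43, 48), (28, 15, 18), (62, 15, 48), (4, 19, 22), (34, 19, 48), (38, 23, 48), (44, 49, 18), (42, 49, 22), (14, 49, 48), (41, 53, 18), (47, 53, 22), (11, 53, 48), (36, 63, 22), (6, 57, 48), (32, 58, 22), (2, 60, 48), (10, 24, 18), (40, 24, 48), (8, 55, 48), (7, 21, 18), (3, 21, 22), (37, 21, 48), (52, 4,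 48), (56, 34, 22), (59, 38, 18), (61, 38, 22), (25, 38, 48), (54, 44, 22), (20, 42, 48), (50, 41, 22), (16, 47, 48), (26, 36, 48), (17, 6, 22), (31, 32, 48), (51, 2, 48), (30, 8, 22), (27, 37, 48), (46, 52, 22), (33, 59, 22), (9, 54, 48), (12, 50, 48), (13, 26, 22)]

theorem gnT : Gn mT GT LT := ⟨clB_mT, by simp only [In]; decide +kernel, by decide +kernel⟩

theorem chkT : enm mT (leaf LT fun T => allLt (fun a => Nat.beq (fl T (fl T (fl T (fl T (fl T (fl T (fl T (fl T a)))))))) a) 64 ||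
    anyLt (fun a => !Nat.beq (od (fl T a)) (od a)) 64) GT [] = true := by decide +kernel

theorem Au.pow_mT (h : Au mT r) : ∀ a < 64, r^[8] a = a := by
  obtain ⟨T, h1, h2⟩ := gnT.tab chkT h
  simp only [in_mT] at h1
  simp only [Bool.or_eq_true, allLt_iff, anyLt_iff, Nat.beq_eq, Bool.not_eq_true', ← Bool.not_eq_true] at h2
  intro a ha
  have k := h2.resolve_right (fun ⟨b, hb, e⟩ => e (by rw [h1 b hb, h.od clB_mT (in_mT.2 hb)])) a ha
  have k2 : ∀ n, (fl T)^[n] a = r^[n] a := fun n => by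
    induction n with
    | zero => rfl
    | succ n ih =>
      rw [Function.iterate_succ_apply', Function.iterate_succ_apply', ← ih, h1]
      cases n
      exacts [ha, Function.iterate_succ_apply' (fl T) _ _ ▸ fl_lt _ _]
  exact (k2 8).symm.trans k

theorem Fam.of_dc (h : Fam m t A) (hr : A r) (d : Dc m r r') (h' : ∀ a, r' a < 64) : A r' := by
  obtain ⟨e, he, s, hs, d⟩ := d
  exact h.congr (h.comp (h.cj _ (iv_lt s)) (h.comp hr (h.cj e he))) fun a ha => by rw [d a ha, (cc_iv hs (h' a)).1]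

theorem Fam.of_dc' (h : Fam m t A) (hr : A r') (d : Dc m r r') : A r := by
  obtain ⟨e, he, s, hs, d⟩ := d
  exact h.congr (h.comp (h.cj s hs) (h.comp hr (h.cj _ (iv_lt e)))) fun a ha => by
    rw [← d _ ((h.au (h.cj _ (iv_lt e))).maps a ha), (cc_iv he ha.1).2]

theorem Fam.cls1 (h : Fam m1 32 A) (hr : A r) : Inr m1 r ∨ ∃ i < 4, Dc m1 r (R1 i) :=
  h.cls gn1 (by norm_num) au_R1 chk1 hr

theorem Fam.all1 (h : Fam m1 32 A) (hi : i < 4) (hk : k < 4) (e : i ≠ k) (h1 : A (R1 i)) (h2 : A (R1 k)) :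
    ∀ l < 4, A (R1 l) := fun l hl => by
  have c : ∀ i < 4, ∀ k < 4, ∀ l < 4, i = k ∨ l = i ∨ l = k ∨ dcB G1 32 (fun a => R1 i (R1 k a)) (R1 l) = true ∨
    dcB G1 32 (fun a => R1 i (R1 i (R1 k a))) (R1 l) = true := by decide +kernel
  have k1 := h.comp h1 h2
  have k2 := h.comp h1 k1
  rcases c i hi k hk l hl with c | rfl | rfl | c | c
  exacts [absurd c e, h1, h2, h.of_dc k1 (h.of_dcB gn1 (by norm_num) (h.au k1) (au_R1 l hl) c) fun _ => f2_lt _ _ _,
    h.of_dc k2 (h.of_dcB gn1 (by norm_num) (h.au k2) (au_R1 l hl) c) fun _ => f2_lt _ _ _]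

theorem Fam.cls2 (h : Fam m2 16 A) (hr : A r) : Inr m2 r ∨ ∃ j < 4, Dc m2 r (R2 j) :=
  h.cls gn2 (by norm_num) au_R2 chk2 hr

theorem Fam.uniq2 (h : Fam m2 16 A) (hi : i < 4) (hj : j < 4) (h1 : A (R2 i)) (h2 : A (R2 j)) : i = j :=
  ((by decide +kernel : ∀ i < 4, ∀ j < 4, i = j ∨ badB G2 16 W2 (fun a => R2 i (R2 j a)) = true) i hi j hj).resolve_right
    (h.not_badB gn2 (by norm_num) (h.comp h1 h2))

end CL.G2T
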