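/-
S5211, `q = 2`: tables of the automorphisms of a fusion system.
-/
import Cfsg.Agent.FUS.G2T.Defs
import Cfsg.Agent.FUS.NormalSub

set_option autoImplicit false
set_option maxRecDepth 100000

namespace CL.G2T

open CL.K CL.Fus Subgroup Cfsg Cfsg.FusionSystem

namespace Md

variable {P : Type*} [Group P] (M : Md P) {F : FusionSystem (⊤ : Subgroup P)} {m a : ℕ} {r : ℕ → ℕ}

include M in
theorem finite : Finite P :=
  Finite.of_surjective (fun a : Fin 64 => M.el a) fun g => let ⟨a, ha, e⟩ := M.surj g; ⟨⟨a, ha⟩, e⟩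

include M in
theorem card : Nat.card P = 64 := by
  rw [← Nat.card_fin 64]
  exact (Nat.card_eq_of_bijective (fun a : Fin 64 => M.el a) ⟨fun a b e => Fin.ext (M.el_inj a.2 b.2 e),
    fun g => let ⟨a, ha, e⟩ := M.surj g; ⟨⟨a, ha⟩, e⟩⟩).symm

include M in
theorem pg : IsPGroup 2 (⊤ : Subgroup P) := IsPGroup.of_card (n := 6) (by rw [card_top, M.card]; rfl)

theorem _root_.CL.G2T.Em.Has.unique {H K : Subgroup P} (h : M.Has H m) (k : M.Has K m) : H = K := by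
  ext g
  obtain ⟨a, ha, rfl⟩ := M.surj g
  rw [h a ha, k a ha]

theorem sg_mT : M.sg mT = ⊤ :=
  eq_top_iff.2 fun g _ => let ⟨a, ha, e⟩ := M.surj g; subset_closure ⟨a, in_mT.2 ha, e⟩

theorem el_mem (h : In m a) : M.el a ∈ M.sg m := subset_closure ⟨a, h, rfl⟩

/-- `r` is the table of an `F`-automorphism of the subgroup with mask `m` -/
def XX (F : FusionSystem (⊤ : Subgroup P)) (m : ℕ) (r : ℕ → ℕ) : Prop :=
  ∃ f, Mor F (M.sg m) f ∧ ∀ a, In m a → In m (r a) ∧ f (M.el a) = M.el (r a)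

variable {M}

theorem XX.au (hm : clB m = true) (h : M.XX F m r) : Au m r := by
  obtain ⟨f, hf, e⟩ := h
  refine ⟨fun a ha => (e a ha).1, fun a b ha hb => M.el_inj (e _ (ha.mu hm hb)).1.1 (mu_lt _ _) ?_, fun a ha k => M.inj a ha.1 ?_⟩
  · rw [← (e _ (ha.mu hm hb)).2, M.mul a ha.1 b hb.1, hf.map_mul (M.el_mem ha) (M.el_mem hb), (e a ha).2, (e b hb).2,
      M.mul _ (e a ha).1.1 _ (e b hb).1.1]
  · exact (hf.eq_one_iff (M.el_mem ha)).1 (by rw [(e a ha).2, k, M.el_zero])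

theorem exists_XX (hm : clB m = true) {f : P → P} (hf : Mor F (M.sg m) f) (h : ∀ x ∈ M.sg m, f x ∈ M.sg m) :
    ∃ r, M.XX F m r ∧ ∀ a, In m a → f (M.el a) = M.el (r a) := by
  choose c hc e using M.surj
  exact ⟨fun a => c (f (M.el a)), ⟨f, hf, fun a ha =>
    ⟨⟨hc _, (M.has_sg hm _ (hc _)).1 (by rw [e]; exact h _ (M.el_mem ha))⟩, (e _).symm⟩⟩, fun a _ => (e _).symm⟩

theorem XX.congr {r' : ℕ → ℕ} (h : M.XX F m r) (e : ∀ a, In m a → r' a = r a) : M.XX F m r' :=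
  let ⟨f, hf, k⟩ := h
  ⟨f, hf, fun a ha => e a ha ▸ k a ha⟩

theorem XX.comp (hm : clB m = true) {r' : ℕ → ℕ} (h : M.XX F m r) (h' : M.XX F m r') : M.XX F m fun a => r (r' a) := by
  obtain ⟨f, hf, e⟩ := h
  obtain ⟨f', hf', e'⟩ := h'
  refine ⟨f ∘ f', hf.comp hf' fun x hx => ?_, fun a ha => ⟨(e _ (e' a ha).1).1, ?_⟩⟩
  · obtain ⟨a, ha, rfl⟩ := (M.mem_sg hm).1 hx
    exact (e' a ha).2 ▸ M.el_mem (e' a ha).1
  · rw [Function.comp_apply, (e' a ha).2, (e _ (e' a ha).1).2]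

theorem xx_cc {s : ℕ} (hs : s < 64) (h : ∀ a, In m a → In m (cc s a)) : M.XX F m (cc s) :=
  ⟨cj (M.el s), mor_cj F le_top trivial, fun a ha => ⟨h a ha, (M.el_cc hs ha.1).symm⟩⟩

/-- a map with the table of an `F`-automorphism is a map of `F` -/
theorem XX.mor (hm : clB m = true) (h : M.XX F m r) {f : P → P} (e : ∀ a, In m a → f (M.el a) = M.el (r a)) :
    Mor F (M.sg m) f :=
  let ⟨_, hg, k⟩ := h
  hg.congr fun x hx => by
    obtain ⟨a, ha, rfl⟩ := (M.mem_sg hm).1 hx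
    rw [(k a ha).2, e a ha]

end Md

end CL.G2T
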