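/-
S5211, `q = 2`: the essential subgroups.
-/
import Cfsg.Agent.FUS.G2T.XX
import Cfsg.Agent.FUS.G2.E2

set_option autoImplicit false
set_option maxRecDepth 100000

namespace CL.G2T

open CL.K CL.Fus CL.G2F Subgroup Cfsg Cfsg.FusionSystem

/-- bit `i` of `a` -/
def bz (a i : ℕ) : ZMod 2 := if tb a i then 1 else 0

/-- the element with code `a` -/
def el0 (a : ℕ) : U (ZMod 2) := ⟨bz a 4, bz a 3, bz a 0, bz a 2, bz a 1, bz a 5⟩

instance decEqU : DecidableEq (U (ZMod 2)) := fun _ _ => decidable_of_iff _ U.ext_iff.symm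

/-- the model -/
def M0 : Md (U (ZMod 2)) where
  el := el0
  mul := by decide +kernel
  inj := by decide +kernel
  surj := fun ⟨u, s, v, r, w, t⟩ => by revert u s v r w t; decide +kernel

theorem has_Q : M0.Has Q m1 := by
  change ∀ a < 64, bz a 5 = 0 ↔ _
  decide +kernel

theorem has_Q' : M0.Has Q' m2 := by
  change ∀ a < 64, bz a 4 = 0 ↔ _
  decide +kernel

theorem Md.ess {P : Type*} [Group P] (M : Md P) {F : FusionSystem (⊤ : Subgroup P)} (hF : F.IsSaturated 2) {E : Subgroup P}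
    (hE : F.IsEssential 2 E) : E = M.sg m1 ∨ E = M.sg m2 := by
  choose c hc e using M.surj
  choose c' hc' e' using M0.surj
  have k : ∀ a < 64, c (M.el a) = a := fun a ha => M.el_inj (hc _) ha (e _)
  have k' : ∀ a < 64, c' (M0.el a) = a := fun a ha => M0.el_inj (hc' _) ha (e' _)
  have i : IsoOn ⊤ ⊤ (fun x => M0.el (c x)) fun y => M.el (c' y) :=
    ⟨fun x _ y _ => by rw [← M0.mul _ (hc x) _ (hc y), ← k _ (mu_lt _ _), M.mul _ (hc x) _ (hc y), e, e],
      fun _ _ => trivial, fun _ _ => trivial, fun x _ => by simp only [k' _ (hc x), e], fun y _ => by simp only [k _ (hc' y), e']⟩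
  obtain ⟨F', h⟩ := i.exists_corr F
  have key : ∀ {m : ℕ} {R : Subgroup (U (ZMod 2))}, clB m = true → M0.Has R m → img (fun x => M0.el (c x)) E = R → E = M.sg m :=
    fun hm hR eR => Em.Has.unique M (fun a ha => by
      rw [← hR a ha, ← eR, ← i.map_mem_img_iff le_top (mem_top _), k a ha]) (M.has_sg hm)
  exact (essL_two (ZMod 2) F' (h.isSaturated hF) _ (h.isEssential hE)).imp (key clB_m1 has_Q) (key clB_m2 has_Q')

end CL.G2T
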