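/-
S5211, `q = 2`: from the tables to the fusion system.
-/
import Cfsg.Agent.FUS.G2T.Cl
import Cfsg.Agent.FUS.G2T.Ess
import Cfsg.Agent.FUS.GroupFusion
import Cfsg.Agent.FUS.Realized

set_option autoImplicit false
set_option maxRecDepth 100000

namespace CL.G2T

open CL.K CL.Fus Subgroup Cfsg Cfsg.FusionSystem

namespace Fx

theorem maps {m n : ℕ} {R : ℕ → ℕ → ℕ} (l : ∀ i a, R i a < 64) (h : allLt (fun i => alm m fun a => tb m (R i a)) n = true) :
    ∀ i < n, ∀ a, In m a → In m (R i a) := fun i hi a ha => ⟨l i a, alm_iff.1 (allLt_iff.1 h i hi) a ha⟩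

theorem cc1 : ∀ s < 64, ∀ a, In m1 a → In m1 (cc s a) := maps cc_lt (by decide +kernel)
theorem cc2 : ∀ s < 64, ∀ a, In m2 a → In m2 (cc s a) := maps cc_lt (by decide +kernel)
theorem r1 : ∀ i < 4, ∀ a, In m1 a → In m1 (R1 i a) := maps (fun _ _ => f2_lt _ _ _) (by decide +kernel)
theorem r2 : ∀ i < 4, ∀ a, In m2 a → In m2 (R2 i a) := maps (fun _ _ => f2_lt _ _ _) (by decide +kernel)

theorem half {m t : ℕ} (h : allLt (fun a => tb m a || (tb m (mu a (iv t)) && Nat.beq a (mu (mu a (iv t)) t))) 64 = true) :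
    ∀ a < 64, In m a ∨ ∃ b, In m b ∧ a = mu b t := fun a ha => by
  have := allLt_iff.1 h a ha
  simp only [Bool.or_eq_true, Bool.and_eq_true, Nat.beq_eq] at this
  exact this.imp (fun k => ⟨ha, k⟩) fun k => ⟨_, ⟨mu_lt _ _, k.1⟩, k.2⟩

theorem cc_iv {u a : ℕ} (hu : u < 64) (ha : a < 64) : cc u (cc (iv u) a) = a :=
  Nat.eq_of_beq_eq_true (all2 (p := fun u a => Nat.beq (cc u (cc (iv u) a)) a) (by decide +kernel) hu ha)

end Fx

namespace Md

variable {P : Type*} [Group P] (M : Md P) {F F' : FusionSystem (⊤ : Subgroup P)} {m t i j k : ℕ} {r : ℕ → ℕ}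

/-- Every `α ∈ F.autGroup ⊤` has `α ^ 8 = 1` (`exists_XX` with `sg_mT`, `XX.au`, `Au.pow_mT`), so `autGroup_top_eq_inn`,
`mem_inn_iff`; `Mor.exists_aut`, `Mor.img_top`. -/
theorem top_inn (hF : F.IsSaturated 2) {f : P → P} (hf : Mor F ⊤ f) : ∃ s < 64, ∀ x, f x = cj (M.el s) x := by
  have := M.finite
  have := Fact.mk Nat.prime_two
  have it : ∀ f, Mor F ⊤ f → ∀ x, f^[8] x = x := fun f hf x => by
    obtain ⟨r, hr, e⟩ := exists_XX clB_mT (hf.mono (Q := M.sg mT) le_top) fun _ _ => M.sg_mT.ge (mem_top _)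
    have au := hr.au clB_mT
    have k : ∀ n, ∀ a < 64, r^[n] a < 64 ∧ f^[n] (M.el a) = M.el (r^[n] a) := fun n a ha => by
      induction n with
      | zero => exact ⟨ha, rfl⟩
      | succ n ih =>
        rw [Function.iterate_succ_apply', Function.iterate_succ_apply', ih.2]
        exact ⟨(au.maps _ (in_mT.2 ih.1)).1, e _ (in_mT.2 ih.1)⟩
    obtain ⟨a, ha, rfl⟩ := M.surj x
    rw [(k 8 a ha).2, au.pow_mT a ha]
  have pw : ∀ (α : MulAut (⊤ : Subgroup P)) (n : ℕ) x, autFun (α ^ n) x = (autFun α)^[n] x := fun α n x => by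
    induction n with
    | zero => exact autFun_one trivial
    | succ n ih => rw [pow_succ', autFun_mul _ _ (mem_top _), ih, Function.iterate_succ_apply']
  have hp : IsPGroup 2 (F.autGroup ⊤) := fun α => ⟨3, Subtype.ext (mulAut_ext_autFun fun x _ =>
    ((pw α.1 8 x).trans (it _ (mor_autFun le_rfl α.2) x)).trans (autFun_one (mem_top _)).symm)⟩
  obtain ⟨α, hα, e⟩ := hf.exists_aut hf.img_top
  rw [autGroup_top_eq_inn M.pg hF hp] at hα
  obtain ⟨g, -, hg⟩ := mem_inn_iff.1 hα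
  obtain ⟨s, hs, rfl⟩ := M.surj g
  exact ⟨s, hs, fun x => (e trivial).symm.trans (hg trivial)⟩

/-- `ext`: `Q = sg m` is normal, so fully normalized (`fullyNormalized_of_normal`), receptive (`receptive_of_fullyNormalized`);
`exists_extend_of_receptive` (`Mor.img_eq_self`) extends `f` to `Nphi ⊤ Q f`, which contains `Q` (`Mor.le_Nphi`) and `el t`
(`mem_Nphi`), so is `⊤` by `h3`; then `top_inn`, `el_cc`, `el_inj`. -/
theorem fam (hF : F.IsSaturated 2) (h1 : clB m = true) (ht : t < 64) (h2 : ∀ s < 64, ∀ a, In m a → In m (cc s a))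
    (h3 : ∀ a < 64, In m a ∨ ∃ b, In m b ∧ a = mu b t) : Fam m t (M.XX F m) := by
  have := M.finite
  have := Fact.mk Nat.prime_two
  refine ⟨XX.au h1, XX.comp h1, fun s hs => xx_cc hs (h2 s hs), XX.congr, fun ⟨f, hf, e⟩ s hs k => ?_⟩
  have nm : ⊤ ≤ normalizer (M.sg m : Set P) := fun g _ => mem_normalizer_of_cj_mem fun x hx => by
    obtain ⟨s, hs, rfl⟩ := M.surj g
    obtain ⟨a, ha, rfl⟩ := (M.mem_sg h1).1 hx
    exact M.el_cc hs ha.1 ▸ M.el_mem (h2 s hs a ha)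
  obtain ⟨g, hg, eg⟩ := exists_extend_of_receptive
    (receptive_of_fullyNormalized M.pg hF (fullyNormalized_of_normal F le_top nm)) hf (hf.img_eq_self fun x hx => by
      obtain ⟨a, ha, rfl⟩ := (M.mem_sg h1).1 hx
      exact (e a ha).2 ▸ M.el_mem (e a ha).1)
  have tN : M.el t ∈ Nphi ⊤ (M.sg m) f := mem_Nphi.2 ⟨trivial, nm trivial, M.el s, trivial, fun x hx => by
    obtain ⟨a, ha, rfl⟩ := (M.mem_sg h1).1 hx
    rw [← M.el_cc ht ha.1, (e _ (h2 t ht a ha)).2, k a ha, (e a ha).2, M.el_cc hs (e a ha).1.1]⟩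
  obtain ⟨u, hu, q⟩ := M.top_inn hF (hg.mono fun x _ => by
    obtain ⟨a, ha, rfl⟩ := M.surj x
    rcases h3 a ha with b | ⟨b, hb, rfl⟩
    · exact hf.le_Nphi (M.el_mem b)
    · exact M.mul b hb.1 t ht ▸ mul_mem (hf.le_Nphi (M.el_mem hb)) tN)
  exact ⟨u, hu, fun a ha => M.el_inj (e a ha).1.1 (cc_lt _ _) (by
    rw [← (e a ha).2, ← eg (M.el_mem ha), q, M.el_cc hu ha.1])⟩

/-- `fam`, the hypotheses by `decide +kernel` (`all2`, `alm_iff`, `anyLt_iff`) -/
theorem fam1 (hF : F.IsSaturated 2) : Fam m1 32 (M.XX F m1) := by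
  exact M.fam hF clB_m1 (by norm_num) Fx.cc1 (Fx.half (by decide +kernel))

theorem fam2 (hF : F.IsSaturated 2) : Fam m2 16 (M.XX F m2) := by
  exact M.fam hF clB_m2 (by norm_num) Fx.cc2 (Fx.half (by decide +kernel))

/-- Otherwise `F.autGroup Q ≤ autInducedBy ⊤ Q` (`exists_XX`, `mor_autFun`, `mem_autInducedBy_iff`) is a 2-group
(`isPGroup_autInducedBy`), against `not_isPGroup_autGroup_of_essential`. -/
theorem exists_not_inr (hF : F.IsSaturated 2) (h1 : clB m = true) (hE : F.IsEssential 2 (M.sg m)) :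
    ∃ r, M.XX F m r ∧ ¬ Inr m r := by
  have := M.finite
  have := Fact.mk Nat.prime_two
  by_contra n
  push Not at n
  refine not_isPGroup_autGroup_of_essential M.pg hF hE ((isPGroup_autInducedBy M.pg _).to_le fun α hα => ?_)
  obtain ⟨r, hr, e⟩ := exists_XX h1 (mor_autFun le_top hα) fun x hx => autFun_mem α hx
  obtain ⟨s, hs, q⟩ := n r hr
  refine mem_autInducedBy_iff.2 ⟨M.el s, trivial, fun x hx => ?_⟩
  obtain ⟨a, ha, rfl⟩ := (M.mem_sg h1).1 hx
  rw [e a ha, q a ha, M.el_cc hs ha.1]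

/-- `alperin_isSubsystemOf`, `top_inn`, `ess`; at `Q₁`: `exists_XX`, `cls1`; inner case `xx_cc`, `XX.congr`; else `of_dc` in `F`,
`h1`, `of_dc'` in `F'`; `XX.mor`. -/
theorem le_of (hF : F.IsSaturated 2) (hF' : F'.IsSaturated 2) (h1 : ∀ i < 4, M.XX F m1 (R1 i) → M.XX F' m1 (R1 i))
    (h2 : ∀ j < 4, M.XX F m2 (R2 j) → M.XX F' m2 (R2 j)) : F ≤ F' := by
  have := M.finite
  have := Fact.mk Nat.prime_two
  refine alperin_isSubsystemOf M.pg hF fun Q f hQ hf e => ?_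
  have key : ∀ {m t} {R : ℕ → ℕ → ℕ}, clB m = true → Fam m t (M.XX F m) → Fam m t (M.XX F' m) → (∀ i a, R i a < 64) →
      (∀ r, M.XX F m r → Inr m r ∨ ∃ i < 4, Dc m r (R i)) → (∀ i < 4, M.XX F m (R i) → M.XX F' m (R i)) →
      Q = M.sg m → Mor F' Q f := fun hm A A' l c h q => by
    subst q
    obtain ⟨r, hr, k⟩ := exists_XX hm hf (img_le_iff.1 e.le)
    refine XX.mor hm ?_ k
    rcases c r hr with ⟨s, hs, q⟩ | ⟨i, hi, d⟩
    exacts [A'.congr (A'.cj s hs) q, A'.of_dc' (h i hi (A.of_dc hr d (l i))) d]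
  rcases hQ with rfl | hQ
  · obtain ⟨s, -, q⟩ := M.top_inn hF hf
    exact (mor_cj F' le_rfl trivial).congr fun x _ => (q x).symm
  · exact (M.ess hF hQ).elim
      (key clB_m1 (M.fam1 hF) (M.fam1 hF') (fun _ _ => f2_lt _ _ _) (fun _ => (M.fam1 hF).cls1) h1)
      (key clB_m2 (M.fam2 hF) (M.fam2 hF') (fun _ _ => f2_lt _ _ _) (fun _ => (M.fam2 hF).cls2) h2)

/-- Pattern: `realizable` in FUS/D3/Real.  `ι : P →* G`, `ι (M.el a) = N.el a` (choose codes by `M.surj`), injective, its range has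
order 64 and is a Sylow subgroup (`IsPGroup.toSylow`; `¬ 2 ^ 7 ∣ card G`).  `E` on `⊤ : Subgroup P` corresponds to
`groupFusionSystem κ.range`; `E` is realizable, so saturated; `M.XX E m r ↔ N.Ind m r` when `r` maps `m` to `m` (for `R1 i`, `R2 j`
by `decide +kernel`; the map is `cj g` read through `ι`: take `f x = M.el (r (code x))`).  With `all1`, `uniq2` for `F` and `E`
the sets of indices agree (`b`: all four in both; `¬ b`: only `i` in both), `le_of` twice, `FusionSystem_le_antisymm`. -/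
theorem real (hF : F.IsSaturated 2) {b : Prop} (hi : i < 4) (hk : k < 4) (hj : j < 4) (e : i ≠ k) (h : Rz i k j b)
    (h1 : M.XX F m1 (R1 i)) (h2 : M.XX F m1 (R1 k) ↔ b) (h3 : M.XX F m2 (R2 j)) : F.IsRealizable 2 := by
  have := M.finite
  have := Fact.mk Nat.prime_two
  obtain ⟨G, _, _, N, hc, n1, n2, n3⟩ := h
  choose c lc ec using M.surj
  have ce : ∀ a < 64, c (M.el a) = a := fun a ha => M.el_inj (lc _) ha (ec _)
  let ι : P →* G := MonoidHom.mk' (fun x => N.el (c x)) fun x y => by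
    rw [← N.mul _ (lc x) _ (lc y), ← ce _ (mu_lt (c x) (c y)), M.mul _ (lc x) _ (lc y), ec, ec]
  have ie : ∀ a < 64, ι (M.el a) = N.el a := fun a ha => congrArg N.el (ce a ha)
  have hι : Function.Injective ι := fun x y q => by rw [← ec x, ← ec y, N.el_inj (lc x) (lc y) q]
  let κ : (⊤ : Subgroup P) →* G := ι.comp (⊤ : Subgroup P).subtype
  have hκ : Function.Injective κ := hι.comp (subtype_injective _)
  obtain ⟨e', he⟩ := exists_isoOn_of_injective κ hκ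
  obtain ⟨E, hE⟩ := he.symm.exists_corr (groupFusionSystem κ.range)
  have hr : E.IsRealizedBy κ := hE.symm.isRealizedBy fun x => (homFn_coe κ x).symm
  have hm : ∀ Q f, Mor E Q f ↔ ∃ g : G, ∀ x ∈ Q, ι (f x) = cj g (ι x) := fun Q f =>
    ((isRealizedBy_iff (e := ι) fun _ => rfl).1 hr).2 Q f le_top fun _ _ => trivial
  have cr : Nat.card κ.range = 2 ^ 6 := by
    rw [← Nat.card_congr (MonoidHom.ofInjective hκ).toEquiv, card_top, M.card]; rfl
  have hR : E.IsRealizable 2 := isRealizable_of_isRealizedBy hr ⟨IsPGroup.toSylow (P := κ.range) (.of_card cr)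
    fun q => hc (by rw [← κ.range.card_mul_index, cr, pow_succ 2 6]; exact Nat.mul_dvd_mul_left _ q), rfl⟩
  have hE' := isSaturated_of_isRealizable hR
  have xe : ∀ {m r}, clB m = true → (∀ a, In m a → In m (r a)) → (M.XX E m r ↔ N.Ind m r) := fun {m r} h0 q =>
    ⟨fun ⟨f, hf, k⟩ => let ⟨g, hg⟩ := (hm _ _).1 hf; ⟨g, fun a ha => by
      rw [← ie _ (q a ha).1, ← (k a ha).2, hg _ (M.el_mem ha), ie a ha.1]⟩, fun ⟨g, hg⟩ =>
      ⟨fun x => M.el (r (c x)), (hm _ _).2 ⟨g, fun x hx => by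
        obtain ⟨a, ha, rfl⟩ := (M.mem_sg h0).1 hx
        rw [ce a ha.1, ie _ (q a ha).1, ie a ha.1, hg a ha]⟩, fun a ha => ⟨q a ha, congrArg (fun x => M.el (r x)) (ce a ha.1)⟩⟩⟩
  have e1 := (xe clB_m1 (Fx.r1 i hi)).2 n1
  have e2 := (xe clB_m1 (Fx.r1 k hk)).trans n2
  have e3 := (xe clB_m2 (Fx.r2 j hj)).2 n3
  have key : ∀ {F F' : FusionSystem (⊤ : Subgroup P)}, F.IsSaturated 2 → F'.IsSaturated 2 → M.XX F m1 (R1 i) →
      (M.XX F m1 (R1 k) ↔ b) → M.XX F m2 (R2 j) → M.XX F' m1 (R1 i) → (M.XX F' m1 (R1 k) ↔ b) → M.XX F' m2 (R2 j) →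
      F ≤ F' := fun hF hF' a1 a2 a3 b1 b2 b3 => M.le_of hF hF' (fun l hl q => by
        by_cases il : i = l
        · exact il ▸ b1
        · exact (M.fam1 hF').all1 hi hk e b1 (b2.2 (a2.1 ((M.fam1 hF).all1 hi hl il a1 q k hk))) l hl)
      fun l hl q => (M.fam2 hF).uniq2 hj hl a3 q ▸ b3
  rwa [FusionSystem_le_antisymm (key hF hE' h1 h2 h3 e1 e2 e3) (key hE' hF e1 e2 e3 h1 h2 h3)]

/-- `normal_of_essential` for `V = sg v`: a map of `F` on `⊤`, `Q₁`, `Q₂` is inner or `cc s ∘ R ∘ cc e⁻¹` (`top_inn`, `ess`, `cls1`,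
`cls2`, `of_dc`, `uniq2`, `h2`), so it maps `V` into `V` (`Mor.img_eq_self_of_le`); then `le_core`. -/
theorem core_ne (hF : F.IsSaturated 2) {v : ℕ} (hj : j < 4) (h2 : ∀ l < 4, M.XX F m1 (R1 l) → l = i)
    (h3 : M.XX F m2 (R2 j)) (v1 : clB v = true) (v2 : In v 1) (v3 : ∀ a, In v a → In m1 a ∧ In m2 a ∧ In v (R1 i a) ∧
      In v (R2 j a) ∧ ∀ s < 64, In v (cc s a)) : F.core ≠ ⊥ := by
  have := M.finite
  have := Fact.mk Nat.prime_two
  have key : ∀ {m t} {R : ℕ → ℕ → ℕ}, clB m = true → Fam m t (M.XX F m) → (∀ i a, R i a < 64) →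
      (∀ r, M.XX F m r → Inr m r ∨ ∃ i < 4, Dc m r (R i)) → (∀ a, In v a → In m a) →
      (∀ l < 4, M.XX F m (R l) → ∀ a, In v a → In v (R l a)) →
      M.sg v ≤ M.sg m ∧ ∀ g, Mor F (M.sg m) g → img g (M.sg m) = M.sg m → img g (M.sg v) = M.sg v :=
    fun hm A l c q h => by
      have le : M.sg v ≤ M.sg _ := closure_mono fun _ ⟨a, ha, e⟩ => ⟨a, q a ha, e⟩
      refine ⟨le, fun g hg e => hg.img_eq_self_of_le le fun x hx => ?_⟩
      obtain ⟨r, hr, k⟩ := exists_XX hm hg (img_le_iff.1 e.le)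
      obtain ⟨a, ha, rfl⟩ := (M.mem_sg v1).1 hx
      rw [k a (q a ha)]
      refine M.el_mem ?_
      rcases c r hr with ⟨s, hs, p⟩ | ⟨l', hl, d⟩
      · exact p a (q a ha) ▸ (v3 a ha).2.2.2.2 s hs
      · have x := A.of_dc hr d (l l')
        obtain ⟨u, hu, s, hs, p⟩ := d
        have hb := (v3 a ha).2.2.2.2 _ (iv_lt u)
        rw [← Fx.cc_iv hu ha.1, p _ (q _ hb)]
        exact (v3 _ (h l' hl x _ hb)).2.2.2.2 s hs
  have n := le_core (normal_of_essential M.pg hF (Q := M.sg v) fun R hR => by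
    rcases hR with rfl | hR
    · refine ⟨le_top, fun g hg _ => hg.img_eq_self_of_le le_top fun x hx => ?_⟩
      obtain ⟨s, hs, q⟩ := M.top_inn hF hg
      obtain ⟨a, ha, rfl⟩ := (M.mem_sg v1).1 hx
      rw [q, ← M.el_cc hs ha.1]
      exact M.el_mem ((v3 a ha).2.2.2.2 s hs)
    · rcases M.ess hF hR with rfl | rfl
      · exact key clB_m1 (M.fam1 hF) (fun _ _ => f2_lt _ _ _) (fun _ => (M.fam1 hF).cls1)
          (fun a ha => (v3 a ha).1) fun l hl x a ha => h2 l hl x ▸ (v3 a ha).2.2.1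
      · exact key clB_m2 (M.fam2 hF) (fun _ _ => f2_lt _ _ _) (fun _ => (M.fam2 hF).cls2)
          (fun a ha => (v3 a ha).2.1) fun l hl x a ha => (M.fam2 hF).uniq2 hj hl h3 x ▸ (v3 a ha).2.2.2.1)
  intro e
  exact absurd (M.inj 1 v2.1 (mem_bot.1 (e ▸ n (M.el_mem v2)))) one_ne_zero

end Md

end CL.G2T
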