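/-
S5211, `q = 2`: the realisers `G₂(3)` and `G₂(2) ≤ G₂(3)`.
-/
import Cfsg.Agent.FUS.G2T.Defs
import Cfsg.Agent.REC.G23.R

set_option autoImplicit false
set_option maxRecDepth 100000

namespace CL.G2T

open CL.K CL.CG CL.Fus Subgroup

namespace G23X

open CL.G23.R

/-- the matrix group -/
abbrev X : Type := GL (Fin 14) (ZMod 3)

/-- the words of the 64 elements -/
def LW : List (List ℕ) := [[],[0,0],[6,4,2,0],[7,4,2,0],[5,0],[4,0],[7,2],[6,2],[7,0],[6,0],[4,2],[5,2],[7,4],[6,4],[2,0],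
  [3,0],[7,4,2],[6,4,2],[1],[0],[7,2,0],[6,2,0],[5],[4],[4,2,0],[5,2,0],[7],[6],[3],[2],[6,4,0],[7,4,0],[10],[10,0,0],
  [10,6,4,2,0],[10,7,4,2,0],[10,7,2],[10,6,2],[10,5,0],[10,4,0],[10,5,2],[10,4,2],[10,6,0],[10,7,0],[10,6,4],[10,7,4],
  [10,3,0],[10,2,0],[10,7,4,0],[10,6,4,0],[10,2],[10,3],[10,5,2,0],[10,4,2,0],[10,6],[10,7],[10,6,2,0],[10,7,2,0],[10,4],
  [10,5],[10,0],[10,1],[10,6,4,2],[10,7,4,2]]

/-- the word of `a` -/
def wd (a : ℕ) : List ℕ := LW.getD a []

/-- the element of `a` -/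
noncomputable def el (a : ℕ) : X := CE.ev g₀ (wd a)

/-- entry `a` of a table of codes -/
def cd (T a : ℕ) : ℕ := fld 2352 (Nat.pred (Nat.shiftLeft 1 2352)) T a

/-- the table `T` lists the codes and is multiplicative -/
noncomputable def chk (T : ℕ) : Bool :=
  allLt (fun a => Nat.beq (cd T a) (evC (wd a))) 64 &&
    allLt (fun a => allLt (fun b => Nat.beq (cd T (mu a b)) (mulM (cd T a) (cd T b))) 64) 64

theorem chk_T : force (mkTab 2352 (fun a => evC (wd a)) 64) chk = true := by decide +kernel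

theorem chk_spec {T : ℕ} (h : chk T = true) {a b : ℕ} (ha : a < 64) (hb : b < 64) :
    evC (wd (mu a b)) = mulM (evC (wd a)) (evC (wd b)) := by
  obtain ⟨h1, h2⟩ := Bool.and_eq_true_iff.1 h
  have k : ∀ x < 64, cd T x = evC (wd x) := fun x hx => eq_of_beq (allLt_iff.1 h1 x hx)
  rw [← k _ (mu_lt a b), ← k a ha, ← k b hb]
  exact eq_of_beq (all2 (p := fun a b => Nat.beq (cd T (mu a b)) (mulM (cd T a) (cd T b))) h2 ha hb)

theorem el_mul {a b : ℕ} (ha : a < 64) (hb : b < 64) : el (mu a b) = el a * el b := by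
  refine codeM.inj ?_
  rw [← codeM.map_mul]
  exact (code_ev _).trans ((chk_spec ((force_eq _ _).symm.trans chk_T) ha hb).trans
    (congrArg₂ mulM (code_ev _) (code_ev _)).symm)

theorem el_inj {a : ℕ} (ha : a < 64) (h : el a = 1) : a = 0 := by
  have h1 : evC (wd a) = oneM := (code_ev _).symm.trans ((congrArg φM h).trans codeM.map_one)
  have h2 := allLt_iff.1 (by decide +kernel :
    allLt (fun a => !Nat.beq (evC (wd a)) oneM || Nat.beq a 0) 64 = true) a ha
  rw [h1, Nat.beq_refl] at h2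
  exact eq_of_beq h2

theorem el_mem {H : Subgroup X} (h : ∀ a < 64, el a ∈ H) (a : ℕ) : el a ∈ H := by
  rcases Nat.lt_or_ge a 64 with ha | ha
  · exact h a ha
  · rw [el, wd, List.getD_eq_default _ _ (show LW.length ≤ a from ha)]
    exact H.one_mem

/-- the embedding -/
noncomputable def em (H : Subgroup X) (h : ∀ a < 64, el a ∈ H) : Em H :=
  ⟨fun a => ⟨el a, el_mem h a⟩, fun _ ha _ hb => Subtype.ext (el_mul ha hb),
    fun _ ha e => el_inj ha (congrArg Subtype.val e)⟩

/-- the word `w` induces `r` on `m` -/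
noncomputable def indB (m : ℕ) (r : ℕ → ℕ) (w : List ℕ) : Bool :=
  alm m fun a => Nat.beq (mulM (evC (wd (r a))) (evC w)) (mulM (evC w) (evC (wd a)))

theorem ind (H : Subgroup X) (h : ∀ a < 64, el a ∈ H) {m : ℕ} {r : ℕ → ℕ} {w : List ℕ} (hw : CE.ev g₀ w ∈ H)
    (hc : indB m r w = true) : (em H h).Ind m r := by
  refine ⟨⟨_, hw⟩, fun a ha => Subtype.ext ?_⟩
  change el (r a) = CE.ev g₀ w * el a * (CE.ev g₀ w)⁻¹
  refine eq_mul_inv_of_mul_eq (codeM.inj ?_)
  rw [← codeM.map_mul, ← codeM.map_mul]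
  exact (congrArg₂ mulM (code_ev _) (code_ev _)).trans ((eq_of_beq (alm_iff.1 hc a ha)).trans
    (congrArg₂ mulM (code_ev _) (code_ev _)).symm)

/-- `G₂(3)` -/
noncomputable abbrev GG : Subgroup X := CE.gen g₀ G23.P.ws

theorem card_GG : Nat.card GG = 4245696 := by
  rw [GG, gen_eq]
  exact (card_map_of_injective (f := rx.toMonoidHom) rx.injective).trans card_G

theorem mem_GG {w : List ℕ} (h : ∀ x ∈ w, [x] ∈ G23.P.ws) : CE.ev g₀ w ∈ GG :=
  CE.ev_mem fun a ha => CE.ev_singleton g₀ a ▸ CE.ev_mem_gen (h a ha)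

theorem el_GG : ∀ a < 64, el a ∈ GG := fun a ha =>
  mem_GG ((by decide +kernel : ∀ a < 64, ∀ x ∈ wd a, [x] ∈ G23.P.ws) a ha)

theorem ind1 : indB m1 (R1 2) [12] = true := by decide +kernel
theorem ind1' : indB m1 (R1 3) [11, 9] = true := by decide +kernel
theorem ind2 : indB m2 (R2 0) [14, 2, 9, 13] = true := by decide +kernel

/-- the code of the matrix with first column `e₀ + e₆ + e₉` -/
def cC : ℕ := 1 + 2 ^ 1008 + 2 ^ 1512

/-- the matrix with first column `e₀ + e₆ + e₉` -/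
def cM : Matrix (Fin 14) (Fin 14) (ZMod 3) := PM.dec 3 14 12 4095 cC

theorem code_cM : PM.code 12 cM = cC := PM.code_dec (by decide +kernel)

theorem code_neg : PM.code 12 (-cM) = 2 * cC := by decide +kernel

theorem cM_ne : cM ≠ -cM := fun e => absurd (code_cM.symm.trans ((congrArg (PM.code 12) e).trans code_neg))
  (by decide +kernel)

theorem code_act (w : List ℕ) : PM.code 12 ((CE.ev g₀ w).1 * cM) = mulM (evC w) cC := by
  rw [← okM.mulC_code, code_cM]
  exact congrArg (mulM · cC) (code_ev w)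

theorem fix {w : List ℕ} (h : Nat.beq (mulM (evC w) cC) cC = true) : (CE.ev g₀ w).1 * cM = cM :=
  okM.code_injective ((code_act w).trans ((eq_of_beq h).trans code_cM.symm))

theorem neg {w : List ℕ} (h : Nat.beq (mulM (evC w) cC) (2 * cC) = true) : (CE.ev g₀ w).1 * cM = -cM :=
  okM.code_injective ((code_act w).trans ((eq_of_beq h).trans code_neg.symm))

/-- the stabilizer of the point -/
def stab : Subgroup X where
  carrier := {g | g.1 * cM = cM ∨ g.1 * cM = -cM}
  one_mem' := Or.inl (one_mul _)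
  mul_mem' := by
    rintro g h (hg | hg) (hh | hh)
    · exact Or.inl (by rw [Units.val_mul, mul_assoc, hh, hg])
    · exact Or.inr (by rw [Units.val_mul, mul_assoc, hh, mul_neg, hg])
    · exact Or.inr (by rw [Units.val_mul, mul_assoc, hh, hg])
    · exact Or.inl (by rw [Units.val_mul, mul_assoc, hh, mul_neg, hg, neg_neg])
  inv_mem' := by
    rintro g (hg | hg)
    · exact Or.inl ((Units.inv_mul_eq_iff_eq_mul g).2 hg.symm)
    · exact Or.inr ((Units.inv_mul_eq_iff_eq_mul g).2 (by rw [mul_neg, hg, neg_neg]))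

theorem el_stab : ∀ a < 64, el a ∈ GG ⊓ stab := fun a ha => ⟨el_GG a ha, by
  have := allLt_iff.1 (by decide +kernel : allLt (fun a => Nat.beq (mulM (evC (wd a)) cC) cC ||
    Nat.beq (mulM (evC (wd a)) cC) (2 * cC)) 64 = true) a ha
  exact (Bool.or_eq_true_iff.1 this).imp fix neg⟩

theorem of_ind {H : Subgroup X} {h : ∀ a < 64, el a ∈ H} {m : ℕ} {r : ℕ → ℕ} (hi : (em H h).Ind m r) :
    ∃ g ∈ H, ∀ a, In m a → el (r a) = g * el a * g⁻¹ := by
  obtain ⟨g, k⟩ := hi
  exact ⟨g, g.2, fun a ha => congrArg Subtype.val (k a ha)⟩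

theorem not_cj {g x y : X} (hg : g ∈ stab) (h1 : y = g * x * g⁻¹) (h2 : x.1 * cM = cM) (h3 : y.1 * cM = -cM) : False := by
  have h4 : y.1 * (g.1 * cM) = g.1 * cM := by
    rw [← mul_assoc, ← Units.val_mul, h1, inv_mul_cancel_right, Units.val_mul, mul_assoc, h2]
  rcases hg with hg | hg
  · rw [hg, h3] at h4
    exact cM_ne h4.symm
  · rw [hg, mul_neg, h3, neg_neg] at h4
    exact cM_ne h4

theorem el_two : (el 2).1 * cM = cM := fix (w := wd 2) (by decide +kernel)

theorem el_two' : (el (R1 3 2)).1 * cM = -cM := neg (w := wd (R1 3 2)) (by decide +kernel)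

theorem not_ind : ¬ (em _ el_stab).Ind m1 (R1 3) := fun hi => by
  obtain ⟨g, hg, h⟩ := of_ind hi
  exact not_cj hg.2 (h 2 ⟨by norm_num, by decide +kernel⟩) el_two el_two'

end G23X

open G23X in
/-- `G = CL.CE.gen g₀ P.ws ≤ GL (Fin 14) (ZMod 3)` of REC/G23/R. -/
theorem rz_G23 : Rz 2 3 0 True :=
  ⟨GG, inferInstance, inferInstance, em GG el_GG, by rw [card_GG]; norm_num,
    ind _ _ (mem_GG (by decide)) ind1, iff_of_true (ind _ _ (mem_GG (by decide)) ind1') trivial,
    ind _ _ (mem_GG (by decide)) ind2⟩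

open G23X in
/-- The same embedding into the stabilizer `G₂(2) = U₃(3) : 2` of a point. -/
theorem rz_G22 : Rz 2 3 0 False :=
  ⟨(GG ⊓ stab : Subgroup X), inferInstance, inferInstance, em _ el_stab, fun h => by
      have := h.trans (card_dvd_of_le (inf_le_left : GG ⊓ stab ≤ GG))
      rw [card_GG] at this
      norm_num at this,
    ind _ _ ⟨mem_GG (by decide), Or.inl (fix (by decide +kernel))⟩ ind1, iff_of_false not_ind not_false,
    ind _ _ ⟨mem_GG (by decide), Or.inl (fix (by decide +kernel))⟩ ind2⟩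

end CL.G2T
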