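/-
S5211, `q = 2`: twisting the realisers by automorphisms of the table group.
-/
import Cfsg.Agent.FUS.G2T.M12
import Cfsg.Agent.FUS.G2T.G23

set_option autoImplicit false
set_option maxRecDepth 100000

namespace CL.G2T

open CL.K CL.Fus Subgroup

/-- `β r β⁻¹` is in the double coset of `r'` -/
noncomputable def twB (m : ℕ) (β r r' : ℕ → ℕ) : Bool :=
  lany (fun e => Nat.blt e 64 && anyLt (fun s => alm m fun a =>
    Nat.beq (β (r a)) (cc s (r' (cc e (β a)))) && tb m (cc e (β a))) 64) [0, 16, 32]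

theorem Em.ind_tw {G : Type*} [Group G] {N N' : Em G} {m : ℕ} {β r r' : ℕ → ℕ} (hβ : ∀ a < 64, β a < 64 ∧ N'.el a = N.el (β a))
    (hr : ∀ a, r a < 64) (hr' : ∀ a, r' a < 64) (c : twB m β r r' = true) (h : N.Ind m r') : N'.Ind m r := by
  simp only [twB, lany_iff, anyLt_iff, alm_iff, Bool.and_eq_true, Nat.blt_eq, Nat.beq_eq] at c
  obtain ⟨e, -, he, s, hs, c⟩ := c
  obtain ⟨g, hg⟩ := h
  exact ⟨N.el s * g * N.el e, fun a ha => by
    rw [(hβ _ (hr a)).2, (c a ha).1, N.el_cc hs (hr' _), hg _ ⟨cc_lt _ _, (c a ha).2⟩, N.el_cc he (hβ a ha.1).1, (hβ a ha.1).2,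
      cj_mul, cj_mul]⟩

/-- the involutory automorphism `B` permutes the `R1 i` by `π`, the `R2 j` by `ρ` -/
noncomputable def twC (B : ℕ) (π ρ : ℕ → ℕ) : Bool :=
  auB mT (fl B) && (allLt (fun a => Nat.beq (fl B (fl B a)) a) 64 && allLt (fun i => twB m1 (fl B) (R1 i) (R1 (π i)) &&
    (twB m1 (fl B) (R1 (π i)) (R1 i) && twB m2 (fl B) (R2 i) (R2 (ρ i)))) 4)

theorem Rz.tw {B i k j : ℕ} {π ρ : ℕ → ℕ} {b : Prop} (c : twC B π ρ = true) (hi : i < 4) (hk : k < 4) (hj : j < 4)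
    (h : Rz (π i) (π k) (ρ j) b) : Rz i k j b := by
  simp only [twC, Bool.and_eq_true, allLt_iff, Nat.beq_eq] at c
  obtain ⟨c1, c2, c3⟩ := c
  have a := au_of_auB c1
  obtain ⟨G, _, _, N, h0, h1, h2, h3⟩ := h
  let N' : Em G := ⟨fun x => N.el (fl B x), fun x hx y hy => by
    rw [a.hom x y (in_mT.2 hx) (in_mT.2 hy), N.mul _ (fl_lt _ _) _ (fl_lt _ _)],
    fun x hx e => a.inj x (in_mT.2 hx) (N.inj _ (fl_lt _ _) e)⟩
  have k1 : ∀ x < 64, fl B x < 64 ∧ N'.el x = N.el (fl B x) := fun x _ => ⟨fl_lt _ _, rfl⟩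
  have k2 : ∀ x < 64, fl B x < 64 ∧ N.el x = N'.el (fl B x) := fun x hx => ⟨fl_lt _ _, congrArg N.el (c2 x hx).symm⟩
  have l1 : ∀ i a, R1 i a < 64 := fun _ _ => f2_lt _ _ _
  have l2 : ∀ i a, R2 i a < 64 := fun _ _ => f2_lt _ _ _
  exact ⟨G, _, ‹_›, N', h0, Em.ind_tw k1 (l1 _) (l1 _) (c3 i hi).1 h1, Iff.trans ⟨Em.ind_tw k2 (l1 _) (l1 _) (c3 k hk).2.1,
    Em.ind_tw k1 (l1 _) (l1 _) (c3 k hk).1⟩ h2, Em.ind_tw k1 (l2 _) (l2 _) (c3 j hj).2.2 h3⟩

theorem tw1 : twC 0xfbff3debbe39db7d35cb3c31bafb2daaba299a79258a38217de75c6da6585d65544d24503ce34c2ca2481c61440c2040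
    ([0, 1, 2, 3].getD · 0) ([1, 0, 3, 2].getD · 0) = true := by decide +kernel

theorem tw2 : twC 0xefae78ffef7cc31cb3d35db7bafb2daaba299259a78218a361969b71d79f4d24505d655434c3ce2482ca1c61440c2040
    ([0, 1, 3, 2].getD · 0) ([0, 1, 2, 3].getD · 0) = true := by decide +kernel

theorem tw3 : twC 0xc70cf2e39ebbd74df6f7cffe8608e2a29aab9649e6b6cbee79f71d5d65546da6584d245038f30d1c61442ca2480c2040
    ([1, 0, 2, 3].getD · 0) ([2, 3, 0, 1].getD · 0) = true := by decide +kernel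

theorem Rz.all {b : Prop} (h : Rz 2 3 0 b) : ∀ j < 4, Rz 2 3 j b := fun j hj => by
  have h1 : Rz 2 3 1 b := .tw tw1 (by norm_num) (by norm_num) (by norm_num) h
  interval_cases j
  exacts [h, h1, .tw tw3 (by norm_num) (by norm_num) (by norm_num) h, .tw tw3 (by norm_num) (by norm_num) (by norm_num) h1]

theorem rz_cases : ∀ i < 4, ∀ j < 4, (i = 0 ∧ j < 2) ∨ (i = 1 ∧ 2 ≤ j) ∨ ∃ k < 4, i ≠ k ∧ Rz i k j False := fun i hi j hj => by
  have h1 : Rz 0 2 3 False := .tw tw1 (by norm_num) (by norm_num) (by norm_num) rz_M12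
  interval_cases i
  · interval_cases j
    exacts [.inl ⟨rfl, by norm_num⟩, .inl ⟨rfl, by norm_num⟩, .inr (.inr ⟨2, hj, by norm_num, rz_M12⟩),
      .inr (.inr ⟨2, by norm_num, by norm_num, h1⟩)]
  · interval_cases j
    exacts [.inr (.inr ⟨2, by norm_num, by norm_num, .tw tw3 hi (by norm_num) hj rz_M12⟩),
      .inr (.inr ⟨2, by norm_num, by norm_num, .tw tw3 hi (by norm_num) hj h1⟩), .inr (.inl ⟨rfl, le_rfl⟩),
      .inr (.inl ⟨rfl, by norm_num⟩)]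
  · exact .inr (.inr ⟨3, by norm_num, by norm_num, rz_G22.all j hj⟩)
  · refine .inr (.inr ⟨2, by norm_num, by norm_num, .tw tw2 hi (by norm_num) hj ?_⟩)
    have := rz_G22.all j hj
    interval_cases j <;> exact this

end CL.G2T
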