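/-
S5211, `q = 2`: embeddings of the table group into coded groups.
-/
import Cfsg.Agent.FUS.G2T.Defs

set_option autoImplicit false
set_option maxRecDepth 100000

namespace CL.G2T

open CL.K CL.CG CL.Fus Subgroup

variable {G : Type*} [Group G] {φ : G → ℕ} {mul : ℕ → ℕ → ℕ} {one : ℕ}

/-- `L` is an injective homomorphism on codes -/
noncomputable def emB (mul : ℕ → ℕ → ℕ) (one : ℕ) (L : ℕ → ℕ) : Bool :=
  allLt (fun a => force (L a) fun x => (Nat.beq a 0 || !Nat.beq x one) &&
    allLt (fun b => Nat.beq (L (mu a b)) (mul x (L b))) 64) 64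

/-- the code `n` induces `r` on `m` -/
noncomputable def indB (mul : ℕ → ℕ → ℕ) (L : ℕ → ℕ) (n m : ℕ) (r : ℕ → ℕ) : Bool :=
  alm m fun a => Nat.blt (r a) 64 && Nat.beq (mul n (L a)) (mul (L (r a)) n)

/-- the embedding given by codes -/
noncomputable def emOf (C : IsCode φ mul one) {L : ℕ → ℕ} (hm : ∀ a < 64, Mem φ ⊤ (L a)) (h : emB mul one L = true) :
    Em G where
  el a := elt φ (L a)
  mul a ha b hb := by
    simp only [emB, allLt_iff, force_eq, Bool.and_eq_true, Nat.beq_eq] at h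
    rw [(h a ha).2 b hb, C.elt_mul (hm a ha) (hm b hb)]
  inj a ha e := by
    simp only [emB, allLt_iff, force_eq, Bool.and_eq_true, Nat.beq_eq, Bool.or_eq_true, Bool.not_eq_true'] at h
    refine (h a ha).1.resolve_right fun k => ne_of_beq k ?_
    rw [← (hm a ha).code_elt, e, C.map_one]

theorem ind_of (C : IsCode φ mul one) {L : ℕ → ℕ} (hm : ∀ a < 64, Mem φ ⊤ (L a)) (h : emB mul one L = true)
    {n m : ℕ} {r : ℕ → ℕ} (hn : Mem φ ⊤ n) (k : indB mul L n m r = true) : (emOf C hm h).Ind m r :=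
  ⟨elt φ n, fun a ha => by
    have := alm_iff.1 k a ha
    simp only [Bool.and_eq_true, Nat.blt_eq, Nat.beq_eq] at this
    exact (mul_inv_eq_of_eq_mul (C.elt_mul_eq hn (hm a ha.1) (hm _ this.1) hn this.2)).symm⟩

end CL.G2T
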